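import Cfsg.Agent.Lib.CS66.CaseC6a

/-! Case (C), second part: existence of `r₃`. -/

set_option autoImplicit false
set_option maxRecDepth 100000

namespace Cfsg.Agent.Lib.CS66.Cfg6

open Cfsg.Agent.Lib.CS67.Sign Cfsg.Agent.Lib.CS67.Local Cfsg.Agent.Lib.CS66.Perm6

variable {G : Type*} [Group G] {t : G} {j : P6 →* G}

/-- The action on `E₁` (codes below 16) from the images of the generators. -/
def linE (a1 a2 a4 a8 n : ℕ) : ℕ :=
  mulS (mulS (mulS (if n &&& 1 = 0 then 0 else a1) (if n &&& 2 = 0 then 0 else a2))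
    (if n &&& 4 = 0 then 0 else a4)) (if n &&& 8 = 0 then 0 else a8)

lemma conj_lin (h : Cfg t j) (g : G) {a1 a2 a4 a8 : ℕ} (h1 : a1 < 32) (h2 : a2 < 32) (h4 : a4 < 32)
    (h8 : a8 < 32) (e1 : g * psi t j 1 * g⁻¹ = psi t j a1) (e2 : g * psi t j 2 * g⁻¹ = psi t j a2)
    (e4 : g * psi t j 4 * g⁻¹ = psi t j a4) (e8 : g * psi t j 8 * g⁻¹ = psi t j a8)
    (n : ℕ) (hn : n < 16) : g * psi t j n * g⁻¹ = psi t j (linE a1 a2 a4 a8 n) := by
  have key : ∀ n : Fin 16, mulS (mulS (mulS (n.1 &&& 1) (n.1 &&& 2)) (n.1 &&& 4)) (n.1 &&& 8) = n.1 ∧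
      (n.1 &&& 1 = 0 ∨ n.1 &&& 1 = 1) ∧ (n.1 &&& 2 = 0 ∨ n.1 &&& 2 = 2) ∧
      (n.1 &&& 4 = 0 ∨ n.1 &&& 4 = 4) ∧ (n.1 &&& 8 = 0 ∨ n.1 &&& 8 = 8) := by decide +kernel
  obtain ⟨e, b1, b2, b4, b8⟩ := key ⟨n, hn⟩
  simp only at e b1 b2 b4 b8
  have c0 : g * psi t j 0 * g⁻¹ = psi t j 0 := by rw [psi_zero]; group
  have f1 : g * psi t j (n &&& 1) * g⁻¹ = psi t j (if n &&& 1 = 0 then 0 else a1) := by
    rcases b1 with b | b <;> simp [b, c0, e1]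
  have f2 : g * psi t j (n &&& 2) * g⁻¹ = psi t j (if n &&& 2 = 0 then 0 else a2) := by
    rcases b2 with b | b <;> simp [b, c0, e2]
  have f4 : g * psi t j (n &&& 4) * g⁻¹ = psi t j (if n &&& 4 = 0 then 0 else a4) := by
    rcases b4 with b | b <;> simp [b, c0, e4]
  have f8 : g * psi t j (n &&& 8) * g⁻¹ = psi t j (if n &&& 8 = 0 then 0 else a8) := by
    rcases b8 with b | b <;> simp [b, c0, e8]
  have l1 : n &&& 1 < 32 := by rcases b1 with b | b <;> omega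
  have l2 : n &&& 2 < 32 := by rcases b2 with b | b <;> omega
  have l4 : n &&& 4 < 32 := by rcases b4 with b | b <;> omega
  have l8 : n &&& 8 < 32 := by rcases b8 with b | b <;> omega
  have m1 : (if n &&& 1 = 0 then 0 else a1) < 32 := by split <;> omega
  have m2 : (if n &&& 2 = 0 then 0 else a2) < 32 := by split <;> omega
  have m4 : (if n &&& 4 = 0 then 0 else a4) < 32 := by split <;> omega
  have m8 : (if n &&& 8 = 0 then 0 else a8) < 32 := by split <;> omega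
  have g1 := conj_mulS h l1 l2 m1 m2 f1 f2
  have g2 := conj_mulS h (mulS_lt ⟨_, l1⟩ ⟨_, l2⟩) l4 (mulS_lt ⟨_, m1⟩ ⟨_, m2⟩) m4 g1 f4
  have g3 := conj_mulS h (mulS_lt ⟨_, mulS_lt ⟨_, l1⟩ ⟨_, l2⟩⟩ ⟨_, l4⟩) l8
    (mulS_lt ⟨_, mulS_lt ⟨_, m1⟩ ⟨_, m2⟩⟩ ⟨_, m4⟩) m8 g2 f8
  rw [e] at g3
  exact g3

/-- A set given by a list of codes. -/
def psiSet (t : G) (j : P6 →* G) (L : List ℕ) : Set G := {g | ∃ n ∈ L, psi t j n = g}

lemma card_psiSet (h : Cfg t j) (L : List ℕ) (hL : L.Nodup) (hlt : ∀ n ∈ L, n < 32) :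
    Nat.card (psiSet t j L) = L.length := by
  classical
  have h1 := card_list_pred L hL (fun _ => True)
  simp only [decide_true] at h1
  have h2 : L.countP (fun _ => true) = L.length := by simp
  rw [h2] at h1
  rw [← h1]
  apply Nat.card_congr
  symm
  refine Equiv.ofBijective (fun x => ⟨psi t j x.1, ⟨x.1, x.2.1, rfl⟩⟩) ⟨?_, ?_⟩
  · rintro ⟨a, ha⟩ ⟨b, hb⟩ e
    apply Subtype.ext
    exact psi_inj h a b (hlt a ha.1) (hlt b hb.1) (Subtype.mk.inj e)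
  · rintro ⟨g, n, hn, rfl⟩
    exact ⟨⟨n, hn, trivial⟩, rfl⟩

/-- Elements acting on codes preserve `psiSet`. -/
lemma mem_setStab_psiSet [Finite G] (g : G) (L : List ℕ) (f : ℕ → ℕ)
    (hf : ∀ n ∈ L, f n ∈ L ∧ g * psi t j n * g⁻¹ = psi t j (f n)) :
    g ∈ setStab (psiSet t j L) := by
  apply mem_setStab_of_forall
  rintro _ ⟨n, hn, rfl⟩
  exact ⟨f n, (hf n hn).1, (hf n hn).2.symm⟩

end Cfsg.Agent.Lib.CS66.Cfg6
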