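import Cfsg.Agent.Lib.CS66.Mixed6

/-! Case (C), third part: the elements `r₁, r₂, r₃`. -/

set_option autoImplicit false
set_option maxRecDepth 100000

namespace Cfsg.Agent.Lib.CS66.Cfg6

open Cfsg.Agent.Lib.CS67.Sign Cfsg.Agent.Lib.CS67.Local Cfsg.Agent.Lib.CS66.Perm6

variable {G : Type*} [Group G] {t : G} {j : P6 →* G}

/-- `r` centralizes `S₀` and takes `t` to `t τ`. -/
structure RH (t : G) (j : P6 →* G) (r : G) : Prop where
  comm : ∀ n, n < 32 → n &&& 1 = 0 → r * psi t j n = psi t j n * r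
  tt : r * t * r⁻¹ = psi t j 3

/-- The action of such an `r` on codes. -/
def thR (n : ℕ) : ℕ := if n &&& 1 = 0 then n else mulS 2 n

theorem thR_lt : ∀ n : Fin 32, thR n.1 < 32 := by decide +kernel

theorem thR_odd : ∀ n : Fin 32, n.1 &&& 1 = 1 →
    mulS 1 n.1 < 32 ∧ mulS 1 n.1 &&& 1 = 0 ∧ mulS 1 (mulS 1 n.1) = n.1 ∧
    mulS 3 (mulS 1 n.1) = mulS 2 n.1 := by decide +kernel

lemma RH.conj (h : Cfg t j) {r : G} (hr : RH t j r) (n : ℕ) (hn : n < 32) :
    r * psi t j n * r⁻¹ = psi t j (thR n) := by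
  rcases psi_bit n hn with h1 | h1
  · simp only [thR, h1, if_true]
    rw [hr.comm n hn h1]; group
  · obtain ⟨a1, a2, a3, a4⟩ := thR_odd ⟨n, hn⟩ h1
    simp only at a1 a2 a3 a4
    have e1 : thR n = mulS 2 n := by simp [thR, h1]
    have e2 : psi t j n = t * psi t j (mulS 1 n) := by
      rw [t_mul_psi h _ a1, a3]
    rw [e1, ← a4, psi_mul h 3 _ (by norm_num) a1, e2]
    calc r * (t * psi t j (mulS 1 n)) * r⁻¹
        = (r * t * r⁻¹) * (r * psi t j (mulS 1 n) * r⁻¹) := by group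
      _ = psi t j 3 * psi t j (mulS 1 n) := by
          rw [hr.tt, hr.comm _ a1 a2]; group

lemma RH.ne_psi (h : Cfg t j) {r : G} (hr : RH t j r) (c : ℕ) (hc : c < 32) : psi t j c ≠ r := by
  intro e
  have h1 : psi t j 3 = psi t j 1 := by
    rw [← hr.tt, ← e, psi_comm_t h c hc, psi_one]; group
  exact psi_ne h (by norm_num) (by norm_num) (by norm_num) h1

lemma RH.sq (h : Cfg t j) {r : G} (hr : RH t j r) {w : ℕ} (hw : w < 32)
    (hXX : r * r = psi t j w) (m : ℕ) (hm : m < 32) :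
    (r * psi t j m) * (r * psi t j m) = psi t j (mulS (mulS (thR m) w) m) := by
  rw [psi_mul h _ _ (mulS_lt ⟨_, thR_lt ⟨m, hm⟩⟩ ⟨w, hw⟩) hm, psi_mul h _ _ (thR_lt ⟨m, hm⟩) hw,
    ← RH.conj h hr m hm, ← hXX]
  group

/-- Adjusting by an element of `S`. -/
lemma adjust_fix (h : Cfg t j) {r : G} {s n : ℕ} (hs : s < 32) (hn : n < 32)
    (e : r * psi t j n * r⁻¹ = psi t j (conjS s n)) :
    ((psi t j s)⁻¹ * r) * psi t j n * ((psi t j s)⁻¹ * r)⁻¹ = psi t j n := by
  calc ((psi t j s)⁻¹ * r) * psi t j n * ((psi t j s)⁻¹ * r)⁻¹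
      = (psi t j s)⁻¹ * (r * psi t j n * r⁻¹) * psi t j s := by group
    _ = (psi t j s)⁻¹ * (psi t j s * psi t j n * (psi t j s)⁻¹) * psi t j s := by
        rw [e, psi_conjS h s n hs hn]
    _ = psi t j n := by group

/-- The possible images of `u` when `r` fixes `τ`. -/
lemma r_u_cases [Finite G] (h : Cfg t j) (hp : ∀ n, n < 32 → (Dc t j n ↔ FC n = true)) {r : G} {v w : ℕ}
    (hv : v < 32) (hw : w < 32)
    (ev : r * psi t j 16 * r⁻¹ = psi t j v) (hvL : v = 16 ∨ v = 28)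
    (ew : r * psi t j 4 * r⁻¹ = psi t j w) : w ∈ [4, 8, 6, 10] := by
  obtain ⟨w0, ws⟩ := image_even h hp (by norm_num) hw ew (by decide +kernel) (by decide +kernel)
  have c5 : mulS v w ≠ mulS w v := by
    intro e
    have e1 := conj_mulS h (a := 16) (b := 4) (a' := v) (b' := w) (by norm_num) (by norm_num) hv hw ev ew
    have e2 := conj_mulS h (a := 4) (b := 16) (a' := w) (b' := v) (by norm_num) (by norm_num) hw hv ew ev
    rw [e] at e1
    have := psi_inj h _ _ (mulS_lt ⟨16, by norm_num⟩ ⟨4, by norm_num⟩)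
      (mulS_lt ⟨4, by norm_num⟩ ⟨16, by norm_num⟩) (conj_inj' (e1.trans e2.symm))
    exact absurd this (by decide +kernel)
  have key : ∀ v ∈ [16, 28], ∀ w : Fin 32, w.1 &&& 1 = 0 → mulS w.1 w.1 = 0 →
      mulS v w.1 ≠ mulS w.1 v → w.1 ∈ [4, 8, 6, 10] := by decide +kernel
  exact key v (by rcases hvL with rfl | rfl <;> decide) ⟨w, hw⟩ w0 ws c5

/-- An element of `N(S)` taking `t` to `t τ`, fixing `τ`, with images of `b`, `u` in the good sets, gives
an element centralizing `S₀`. -/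
theorem exists_r3' [Finite G] (h : Cfg t j) {r : G} {v w : ℕ}
    (hrt : r * t * r⁻¹ = psi t j 3) (hrτ : r * psi t j 2 * r⁻¹ = psi t j 2)
    (ev : r * psi t j 16 * r⁻¹ = psi t j v) (hvL : v = 16 ∨ v = 28)
    (ew : r * psi t j 4 * r⁻¹ = psi t j w) (hw48 : w = 4 ∨ w = 8) :
    ∃ r, RH t j r := by
  have key : ∀ v ∈ [16, 28], ∀ w ∈ [4, 8], ∃ s : Fin 32, s.1 &&& 1 = 0 ∧ conjS s.1 16 = v ∧
      conjS s.1 4 = w ∧ conjS s.1 3 = 3 ∧ conjS s.1 2 = 2 := by decide +kernel
  obtain ⟨s, s0, s16, s4, s3, s2⟩ := key v (by rcases hvL with rfl | rfl <;> decide) w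
    (by rcases hw48 with rfl | rfl <;> decide)
  have hs := s.2
  have f16 := adjust_fix h (r := r) hs (n := 16) (by norm_num) (by rw [s16]; exact ev)
  have f4 := adjust_fix h (r := r) hs (n := 4) (by norm_num) (by rw [s4]; exact ew)
  have f2 := adjust_fix h (r := r) hs (n := 2) (by norm_num) (by rw [s2]; exact hrτ)
  set X' := (psi t j s.1)⁻¹ * r with hX'
  have c16 : Commute X' (psi t j 16) := mul_inv_eq_iff_eq_mul.1 f16
  have c4 : Commute X' (psi t j 4) := mul_inv_eq_iff_eq_mul.1 f4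
  have c2 : Commute X' (psi t j 2) := mul_inv_eq_iff_eq_mul.1 f2
  have c8 : Commute X' (psi t j 8) := by
    have e := psi_conjS h 16 4 (by norm_num) (by norm_num)
    have e' : conjS 16 4 = 8 := by decide +kernel
    rw [e'] at e
    rw [← e]
    exact (c16.mul_right c4).mul_right c16.inv_right
  refine ⟨X', fun n hn hn0 => comm_even h X' c2 c4 c8 c16 n hn hn0, ?_⟩
  rw [hX']
  calc (psi t j s.1)⁻¹ * r * t * ((psi t j s.1)⁻¹ * r)⁻¹
      = (psi t j s.1)⁻¹ * (r * t * r⁻¹) * psi t j s.1 := by group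
    _ = (psi t j s.1)⁻¹ * psi t j (conjS s.1 3) * psi t j s.1 := by rw [hrt, s3]
    _ = (psi t j s.1)⁻¹ * (psi t j s.1 * psi t j 3 * (psi t j s.1)⁻¹) * psi t j s.1 := by
        rw [psi_conjS h s.1 3 hs (by norm_num)]
    _ = psi t j 3 := by group

theorem rho3_facts : pcomm rho3 tau ∧ (∀ i : Fin 6, rho3 (rho3 (rho3 i)) = i) ∧
    rho3 * z * rho3⁻¹ = b ∧ rho3 * b * rho3⁻¹ = b * z := by decide +kernel

lemma rho3_cube : rho3 ^ 3 = 1 := by
  ext i
  have := rho3_facts.2.1 i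
  simpa [pow_succ] using congrArg Fin.val this

/-- The square of `r` is `1` or `τ`. -/
theorem RH.sq_code (h : Cfg t j) (hp : ∀ n, n < 32 → (Dc t j n ↔ FC n = true)) {r : G}
    (hr : RH t j r) : r * r = psi t j 0 ∨ r * r = psi t j 2 := by
  have f : ∀ n, n < 32 → n &&& 1 = 0 → Commute r (psi t j n) := fun n hn h0 => hr.comm n hn h0
  have hW : Commute (r * r) t := by
    have e3 : thR 3 = 1 := by decide +kernel
    have h1 : (r * r) * t * (r * r)⁻¹ = t := by
      calc (r * r) * t * (r * r)⁻¹ = r * (r * t * r⁻¹) * r⁻¹ := by group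
        _ = r * psi t j 3 * r⁻¹ := by rw [hr.tt]
        _ = t := by rw [RH.conj h hr 3 (by norm_num), e3, psi_one]
    exact mul_inv_eq_iff_eq_mul.1 h1
  have cc : ∀ n, n < 32 → n &&& 1 = 0 → Commute (r * r) (psi t j n) := fun n hn h0 =>
    (f n hn h0).mul_left (f n hn h0)
  obtain ⟨c, hc, hWc⟩ := central_elt h (r * r) hW (cc 2 (by norm_num) (by decide))
    (cc 4 (by norm_num) (by decide)) (cc 8 (by norm_num) (by decide)) (cc 16 (by norm_num) (by decide))
  have hcS : ∀ c ∈ [0, 2, 12, 14], c < 32 ∧ mulS 1 c < 32 ∧ thR (mulS 1 c) ≠ mulS 1 c ∧ c &&& 1 = 0 := by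
    decide +kernel
  obtain ⟨c1, c1', c1'', c0⟩ := hcS c hc
  have hWc' : r * r = psi t j c := by
    rcases hWc with e | e
    · exact e
    · exfalso
      apply c1''
      apply psi_inj h _ _ (thR_lt ⟨_, c1'⟩) c1'
      rw [← RH.conj h hr _ c1', ← e]; group
  -- the element `rho3`
  have hrτ : r * psi t j 2 * r⁻¹ = psi t j 2 := by rw [hr.comm 2 (by norm_num) (by decide)]; group
  obtain ⟨π, hπτ, e⟩ := r_conj_tau_comm h hp hr.tt hrτ rho3 rho3_facts.1
  have hcube : (r * j rho3 * r⁻¹) ^ 3 = 1 := by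
    rw [conj_pow, ← map_pow, rho3_cube, map_one]; group
  have e' : r * j rho3 * r⁻¹ = j π := by
    rcases e with e | e
    · exact e
    · exfalso
      rw [e, cube_tj h] at hcube
      apply h.tnot (π ^ 3)⁻¹
      rw [map_inv]
      exact (eq_inv_of_mul_eq_one_left hcube).symm
  have h3 : ∀ i : Fin 6, π (π (π i)) = i := by
    intro i
    have h3' : π ^ 3 = 1 := by
      apply h.inj
      rw [map_pow, ← e', hcube, map_one]
    have := congrArg (fun f : P6 => f i) h3'
    simpa [pow_succ] using this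
  have act : ∀ (p q : P6) (a b' : ℕ), a < 32 → b' < 32 → a &&& 1 = 0 → b' &&& 1 = 0 →
      toP a = p → toP b' = q → rho3 * p * rho3⁻¹ = q → ∀ i : Fin 6, π (p i) = q (π i) := by
    intro p q a b' ha hb' ha0 hb0 hap hbq hpq
    have e1 : j π * j p * (j π)⁻¹ = j q := by
      rw [← e']
      calc r * j rho3 * r⁻¹ * j p * (r * j rho3 * r⁻¹)⁻¹
          = r * (j rho3 * (r⁻¹ * j p * r) * (j rho3)⁻¹) * r⁻¹ := by group
        _ = r * (j rho3 * j p * (j rho3)⁻¹) * r⁻¹ := by
            have : r⁻¹ * j p * r = j p := by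
              rw [← hap, ← psi_even (t := t) (j := j) a ha0, mul_assoc, ← hr.comm a ha ha0]; group
            rw [this]
        _ = r * j q * r⁻¹ := by rw [← map_inv, ← map_mul, ← map_mul, hpq]
        _ = j q := by
            rw [← hbq, ← psi_even (t := t) (j := j) b' hb0, hr.comm b' hb' hb0]; group
    have e2 : π * p = q * π := by
      apply h.inj
      rw [map_mul, map_mul, ← e1]; group
    intro i
    have := congrArg (fun f : P6 => f i) e2
    simpa using this
  have a1 := act z b 12 16 (by norm_num) (by norm_num) (by decide) (by decide) toP_12 toP_16 rho3_facts.2.2.1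
  have a2 := act b (b * z) 16 28 (by norm_num) (by norm_num) (by decide) (by decide) toP_16
    (by decide +kernel) rho3_facts.2.2.2
  have hπ := order3_rho3 π hπτ h3 a1 a2
  -- so `r` moves `rho3` by an element of `V₄`
  have hE : ∃ e, e ∈ [0, 12, 16, 28] ∧ r * j rho3 * r⁻¹ = j rho3 * psi t j e := by
    rw [e']
    have e0 : psi t j 0 = j 1 := by rw [psi_even 0 (by decide), toP_zero]
    have e16 : psi t j 16 = j b := by rw [psi_even 16 (by decide), toP_16]
    have e12 : psi t j 12 = j z := by rw [psi_even 12 (by decide), toP_12]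
    have t28 : toP 28 = b * z := by decide +kernel
    have e28 : psi t j 28 = j (b * z) := by rw [psi_even 28 (by decide), t28]
    rcases hπ with rfl | rfl | rfl | rfl
    · exact ⟨0, by decide, by rw [e0]; simp⟩
    · exact ⟨16, by decide, by rw [e16, map_mul]⟩
    · exact ⟨12, by decide, by rw [e12, map_mul]⟩
    · exact ⟨28, by decide, by rw [e28, map_mul]⟩
  obtain ⟨e2, he2, ee⟩ := hE
  have he2S : ∀ e ∈ [0, 12, 16, 28], e < 32 ∧ e &&& 1 = 0 ∧ mulS e e = 0 := by decide +kernel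
  obtain ⟨l1, l2, l3⟩ := he2S e2 he2
  have hcomm : (r * r) * j rho3 * (r * r)⁻¹ = j rho3 := by
    calc (r * r) * j rho3 * (r * r)⁻¹ = r * (r * j rho3 * r⁻¹) * r⁻¹ := by group
      _ = r * (j rho3 * psi t j e2) * r⁻¹ := by rw [ee]
      _ = (r * j rho3 * r⁻¹) * (r * psi t j e2 * r⁻¹) := by group
      _ = (j rho3 * psi t j e2) * psi t j e2 := by
          rw [ee, hr.comm e2 l1 l2]; group
      _ = j rho3 * (psi t j e2 * psi t j e2) := by group
      _ = j rho3 := by rw [← psi_mul h _ _ l1 l1, l3, psi_zero, mul_one]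
  rw [hWc', psi_even c c0] at hcomm
  have hc2 : toP c * rho3 = rho3 * toP c := by
    apply h.inj
    rw [map_mul, map_mul]
    exact mul_inv_eq_iff_eq_mul.1 hcomm
  have hfin : ∀ c ∈ [0, 2, 12, 14], pcomm (toP c) rho3 → c = 0 ∨ c = 2 := by decide +kernel
  rcases hfin c hc (pcomm_of_commute hc2) with rfl | rfl
  · left; exact hWc'
  · right; exact hWc'

end Cfsg.Agent.Lib.CS66.Cfg6
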