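import Cfsg.Agent.Lib.CS66.CaseC6c

/-! Case (C), fourth part: commutators of `r₁, r₂, r₃`. -/

set_option autoImplicit false
set_option maxRecDepth 100000

namespace Cfsg.Agent.Lib.CS66.Cfg6

open Cfsg.Agent.Lib.CS67.Sign Cfsg.Agent.Lib.CS67.Local Cfsg.Agent.Lib.CS66.Perm6

variable {G : Type*} [Group G] {t : G} {j : P6 →* G}

theorem pi0_facts : pi0 * pi0 = 1 ∧ pi0 * tau * pi0⁻¹ = u ∧ pi0 * u * pi0⁻¹ = tau ∧
    pi0 * uz * pi0⁻¹ = uz := by decide +kernel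

abbrev LP := linE 1 4 2 8
abbrev L1 := linE 5 2 4 8
abbrev L2 := linE 9 2 4 8
abbrev L3 := linE 3 2 4 8

lemma psi_2 : psi t j 2 = j tau := by rw [psi_even 2 (by decide), toP_2]
lemma psi_4 : psi t j 4 = j u := by rw [psi_even 4 (by decide), toP_4]
lemma psi_8 : psi t j 8 = j uz := by rw [psi_even 8 (by decide), toP_8]
lemma psi_16 : psi t j 16 = j b := by rw [psi_even 16 (by decide), toP_16]

lemma cP (h : Cfg t j) (n : ℕ) (hn : n < 16) :
    j pi0 * psi t j n * (j pi0)⁻¹ = psi t j (LP n) := by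
  apply conj_lin h (j pi0) (by norm_num) (by norm_num) (by norm_num) (by norm_num) _ _ _ _ n hn
  · rw [psi_one, h.comm]; group
  · rw [psi_2, psi_4, ← pi0_facts.2.1]; simp
  · rw [psi_2, psi_4, ← pi0_facts.2.2.1]; simp
  · rw [psi_8, ← map_inv, ← map_mul, ← map_mul, pi0_facts.2.2.2]

lemma P_inv (h : Cfg t j) : (j pi0)⁻¹ = j pi0 := by
  apply inv_eq_of_mul_eq_one_left
  rw [← map_mul, pi0_facts.1, map_one]

lemma conj_inv_lin {g : G} {A : ℕ → ℕ} (ha : ∀ n, n < 16 → g * psi t j n * g⁻¹ = psi t j (A n))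
    (hlt : ∀ n : Fin 16, A n.1 < 16) (hAA : ∀ n : Fin 16, A (A n.1) = n.1) (n : ℕ) (hn : n < 16) :
    g⁻¹ * psi t j n * g = psi t j (A n) := by
  have h1 := ha (A n) (hlt ⟨n, hn⟩)
  rw [hAA ⟨n, hn⟩] at h1
  rw [← h1]; group

theorem LA_facts : (∀ n : Fin 16, LP n.1 < 16 ∧ LP (LP n.1) = n.1) ∧
    (∀ n : Fin 16, L1 n.1 < 16 ∧ L1 (L1 n.1) = n.1) ∧
    (∀ n : Fin 16, L2 n.1 < 16 ∧ L2 (L2 n.1) = n.1) ∧
    (∀ n : Fin 16, L3 n.1 < 16 ∧ L3 (L3 n.1) = n.1) ∧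
    (∀ n : Fin 16, LP (L3 (LP n.1)) = L1 n.1) ∧
    (∀ n : Fin 16, LP (L2 (LP n.1)) = L2 n.1) ∧
    (∀ n : Fin 16, conjS 16 n.1 < 16 ∧ conjS 16 (conjS 16 n.1) = n.1) ∧
    (∀ n : Fin 16, conjS 16 (L1 (conjS 16 n.1)) = L2 n.1) ∧
    (∀ n : Fin 16, L1 (L3 (L1 (L3 n.1))) = n.1) := by decide +kernel

lemma comm_act {g₁ g₂ : G} {A B : ℕ → ℕ}
    (ha : ∀ n, n < 16 → g₁ * psi t j n * g₁⁻¹ = psi t j (A n))
    (hb : ∀ n, n < 16 → g₂ * psi t j n * g₂⁻¹ = psi t j (B n))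
    (hAlt : ∀ n : Fin 16, A n.1 < 16) (hBlt : ∀ n : Fin 16, B n.1 < 16)
    (hAA : ∀ n : Fin 16, A (A n.1) = n.1) (hBB : ∀ n : Fin 16, B (B n.1) = n.1)
    (hc : ∀ n : Fin 16, A (B (A (B n.1))) = n.1) (n : ℕ) (hn : n < 16) :
    (g₁ * g₂ * g₁⁻¹ * g₂⁻¹) * psi t j n * (g₁ * g₂ * g₁⁻¹ * g₂⁻¹)⁻¹ = psi t j n := by
  have e1 := conj_inv_lin hb hBlt hBB n hn
  have l1 := hBlt ⟨n, hn⟩
  have e2 := conj_inv_lin ha hAlt hAA (B n) l1
  have l2 := hAlt ⟨_, l1⟩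
  have e3 := hb _ l2
  have l3 := hBlt ⟨_, l2⟩
  have e4 := ha _ l3
  rw [hc ⟨n, hn⟩] at e4
  calc (g₁ * g₂ * g₁⁻¹ * g₂⁻¹) * psi t j n * (g₁ * g₂ * g₁⁻¹ * g₂⁻¹)⁻¹
      = g₁ * (g₂ * (g₁⁻¹ * (g₂⁻¹ * psi t j n * g₂) * g₁) * g₂⁻¹) * g₁⁻¹ := by group
    _ = psi t j n := by rw [e1, e2, e3, e4]

/-- The centralizer of `E₁`. -/
lemma E1_centralizer (h : Cfg t j) (W : G) (c1 : W * t = t * W)
    (c2 : W * psi t j 2 = psi t j 2 * W) (c4 : W * psi t j 4 = psi t j 4 * W)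
    (c8 : W * psi t j 8 = psi t j 8 * W) : ∃ n, n < 16 ∧ W = psi t j n := by
  obtain ⟨π, hπ⟩ := h.surj W c1
  have key : ∀ s : P6, W * j s = j s * W → π * s = s * π := by
    intro s hs
    apply h.inj
    rw [map_mul, map_mul]
    rcases hπ with e | e
    · rw [e] at hs; exact hs
    · rw [e] at hs
      have h5 : t * (j π * j s) = t * (j s * j π) := by
        calc t * (j π * j s) = t * j π * j s := by group
          _ = j s * (t * j π) := hs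
          _ = (j s * t) * j π := by group
          _ = (t * j s) * j π := by rw [h.comm]
          _ = t * (j s * j π) := by group
      exact mul_left_cancel h5
  rw [psi_2] at c2
  rw [psi_4] at c4
  rw [psi_8] at c8
  obtain ⟨x, hx⟩ := centralizer_J3 π (pcomm_of_commute (key _ c4)) (pcomm_of_commute (key _ c8))
    (pcomm_of_commute (key _ c2))
  have key2 : ∀ x : Fin 8, 2 * x.1 &&& 1 = 0 ∧ (2 * x.1 + 1) &&& 1 = 1 ∧
      toP (2 * x.1 + 1) = toP (2 * x.1) := by decide +kernel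
  obtain ⟨k2, k3, k4⟩ := key2 x
  rcases hπ with e | e
  · exact ⟨2 * x.1, by omega, by rw [e, hx, psi_even _ k2]⟩
  · exact ⟨2 * x.1 + 1, by omega, by rw [e, hx, psi_odd _ k3, k4]⟩

section

variable (h : Cfg t j) (hp : ∀ n, n < 32 → (Dc t j n ↔ FC n = true))

lemma RH.a3 {r : G} (h : Cfg t j) (hr : RH t j r) (n : ℕ) (hn : n < 16) :
    r * psi t j n * r⁻¹ = psi t j (L3 n) := by
  apply conj_lin h r (by norm_num) (by norm_num) (by norm_num) (by norm_num) _ _ _ _ n hn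
  · rw [psi_one]; exact hr.tt
  · rw [hr.comm 2 (by norm_num) (by decide)]; group
  · rw [hr.comm 4 (by norm_num) (by decide)]; group
  · rw [hr.comm 8 (by norm_num) (by decide)]; group

lemma RH.a1 {r : G} (h : Cfg t j) (hr : RH t j r) (n : ℕ) (hn : n < 16) :
    (j pi0 * r * (j pi0)⁻¹) * psi t j n * (j pi0 * r * (j pi0)⁻¹)⁻¹ = psi t j (L1 n) := by
  have e1 := conj_inv_lin (cP h) (fun n => (LA_facts.1 n).1) (fun n => (LA_facts.1 n).2) n hn
  have l1 := (LA_facts.1 ⟨n, hn⟩).1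
  have e2 := RH.a3 h hr _ l1
  have l2 := (LA_facts.2.2.2.1 ⟨_, l1⟩).1
  have e3' := cP h _ l2
  rw [LA_facts.2.2.2.2.1 ⟨n, hn⟩] at e3'
  calc (j pi0 * r * (j pi0)⁻¹) * psi t j n * (j pi0 * r * (j pi0)⁻¹)⁻¹
      = j pi0 * (r * ((j pi0)⁻¹ * psi t j n * j pi0) * r⁻¹) * (j pi0)⁻¹ := by group
    _ = psi t j (L1 n) := by rw [e1, e2, e3']

/-- The commutator `[r₁, r₃]` lies in `⟨u τ, u z⟩`. -/
theorem comm_r1_r (hp : ∀ n, n < 32 → (Dc t j n ↔ FC n = true)) (h : Cfg t j) {r : G} (hr : RH t j r) :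
    ∃ n, n ∈ [0, 6, 8, 14] ∧
    (j pi0 * r * (j pi0)⁻¹) * r * (j pi0 * r * (j pi0)⁻¹)⁻¹ * r⁻¹ = psi t j n := by
  set r1 := j pi0 * r * (j pi0)⁻¹ with hr1
  set C := r1 * r * r1⁻¹ * r⁻¹ with hC
  have a1 : ∀ n, n < 16 → r1 * psi t j n * r1⁻¹ = psi t j (L1 n) := RH.a1 h hr
  have a3 : ∀ n, n < 16 → r * psi t j n * r⁻¹ = psi t j (L3 n) := RH.a3 h hr
  have hCact := comm_act a1 a3 (fun n => (LA_facts.2.1 n).1) (fun n => (LA_facts.2.2.2.1 n).1)
    (fun n => (LA_facts.2.1 n).2) (fun n => (LA_facts.2.2.2.1 n).2) LA_facts.2.2.2.2.2.2.2.2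
  have gC : ∀ n, n < 16 → C * psi t j n = psi t j n * C := fun n hn =>
    mul_inv_eq_iff_eq_mul.1 (hCact n hn)
  obtain ⟨n, hn, eC⟩ := E1_centralizer h C (by
    have := gC 1 (by norm_num)
    rwa [psi_one] at this) (gC 2 (by norm_num)) (gC 4 (by norm_num)) (gC 8 (by norm_num))
  -- no `t`-part
  obtain ⟨e₃, he₃, er⟩ : ∃ e₃, (e₃ = 0 ∨ e₃ = 2) ∧ r * r = psi t j e₃ := by
    rcases RH.sq_code h hp hr with e | e
    · exact ⟨0, Or.inl rfl, e⟩
    · exact ⟨2, Or.inr rfl, e⟩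
  have hle₃ : e₃ < 16 := by omega
  have er1 : r1 * r1 = psi t j (LP e₃) := by
    rw [← cP h e₃ hle₃, ← er, hr1]; group
  have hev : LP e₃ < 32 ∧ LP e₃ &&& 1 = 0 := by
    rcases he₃ with rfl | rfl <;> decide +kernel
  have hn0 : n &&& 1 = 0 := by
    set f := r1 * r with hf
    have gf : ∀ m, m < 16 → f * psi t j m * f⁻¹ = psi t j (L1 (L3 m)) := by
      intro m hm
      have l := (LA_facts.2.2.2.1 ⟨m, hm⟩).1
      rw [← a1 _ l, ← a3 m hm, hf]; group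
    have gff : ∀ m, m < 16 → (f * f) * psi t j m = psi t j m * (f * f) := by
      intro m hm
      have l := (LA_facts.2.2.2.1 ⟨m, hm⟩).1
      have l' := (LA_facts.2.1 ⟨_, l⟩).1
      have : (f * f) * psi t j m * (f * f)⁻¹ = psi t j m := by
        calc (f * f) * psi t j m * (f * f)⁻¹ = f * (f * psi t j m * f⁻¹) * f⁻¹ := by group
          _ = psi t j (L1 (L3 (L1 (L3 m)))) := by rw [gf m hm, gf _ l']
          _ = psi t j m := by rw [LA_facts.2.2.2.2.2.2.2.2 ⟨m, hm⟩]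
      exact mul_inv_eq_iff_eq_mul.1 this
    obtain ⟨n', hn', eff⟩ := E1_centralizer h (f * f) (by
      have := gff 1 (by norm_num)
      rwa [psi_one] at this) (gff 2 (by norm_num)) (gff 4 (by norm_num)) (gff 8 (by norm_num))
    have hn'0 : n' &&& 1 = 0 := by
      have h1 := gf n' hn'
      rw [← eff] at h1
      have h2 : f * (f * f) * f⁻¹ = f * f := by group
      rw [h2, eff] at h1
      have h3 := psi_inj h _ _ (by omega) (by
        have := (LA_facts.2.1 ⟨_, (LA_facts.2.2.2.1 ⟨n', hn'⟩).1⟩).1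
        simp only at this
        omega) h1
      have key : ∀ m : Fin 16, m.1 = L1 (L3 m.1) → m.1 &&& 1 = 0 := by decide +kernel
      exact key ⟨n', hn'⟩ h3
    have hff : f * f = C * psi t j (LP e₃) * psi t j e₃ := by
      have hcomm : r * psi t j (LP e₃) = psi t j (LP e₃) * r := hr.comm _ hev.1 hev.2
      calc f * f = r1 * r * r1 * r := by rw [hf]; group
        _ = (r1 * r * r1⁻¹ * r⁻¹) * r * r1 * r1 * r := by group
        _ = C * r * (r1 * r1) * r := by rw [← hC]; group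
        _ = C * (r * psi t j (LP e₃)) * r := by rw [er1]; group
        _ = C * (psi t j (LP e₃) * r) * r := by rw [hcomm]
        _ = C * psi t j (LP e₃) * (r * r) := by group
        _ = C * psi t j (LP e₃) * psi t j e₃ := by rw [er]
    rw [eff, eC, ← psi_mul h _ _ (by omega) hev.1,
      ← psi_mul h _ _ (mulS_lt ⟨n, by omega⟩ ⟨_, hev.1⟩) (by omega)] at hff
    have h3 := psi_inj h _ _ (by omega) (mulS_lt ⟨_, mulS_lt ⟨n, by omega⟩ ⟨_, hev.1⟩⟩ ⟨e₃, by omega⟩) hff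
    have key : ∀ e₃ ∈ [0, 2], ∀ m : Fin 16, (mulS (mulS m.1 (LP e₃)) e₃) &&& 1 = m.1 &&& 1 := by
      decide +kernel
    have := key e₃ (by rcases he₃ with rfl | rfl <;> decide) ⟨n, hn⟩
    simp only at this
    rw [← h3, hn'0] at this
    exact this.symm
  -- symmetry
  have hsym : LP n = n := by
    have hP := P_inv h
    have e1 : j pi0 * r1 * (j pi0)⁻¹ = r := by
      rw [hr1]
      calc j pi0 * (j pi0 * r * (j pi0)⁻¹) * (j pi0)⁻¹ = (j pi0 * j pi0) * r * ((j pi0)⁻¹ * (j pi0)⁻¹) := by group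
        _ = r := by
          rw [hP, ← map_mul, pi0_facts.1, map_one]; simp
    have e2 : j pi0 * C * (j pi0)⁻¹ = C⁻¹ := by
      rw [hC]
      calc j pi0 * (r1 * r * r1⁻¹ * r⁻¹) * (j pi0)⁻¹
          = (j pi0 * r1 * (j pi0)⁻¹) * (j pi0 * r * (j pi0)⁻¹) * (j pi0 * r1 * (j pi0)⁻¹)⁻¹
              * (j pi0 * r * (j pi0)⁻¹)⁻¹ := by group
        _ = r * r1 * r⁻¹ * r1⁻¹ := by rw [e1]
        _ = (r1 * r * r1⁻¹ * r⁻¹)⁻¹ := by group
    rw [eC, cP h n hn] at e2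
    have e3' : (psi t j n)⁻¹ = psi t j n := by
      apply inv_eq_of_mul_eq_one_left
      have key : ∀ n : Fin 16, n.1 &&& 1 = 0 → mulS n.1 n.1 = 0 := by decide +kernel
      rw [← psi_mul h _ _ (by omega) (by omega), key ⟨n, hn⟩ hn0, psi_zero]
    rw [e3'] at e2
    exact psi_inj h _ _ (by
      have := (LA_facts.1 ⟨n, hn⟩).1
      simp only at this
      omega) (by omega) e2
  have key : ∀ n : Fin 16, n.1 &&& 1 = 0 → LP n.1 = n.1 → n.1 ∈ [0, 6, 8, 14] := by decide +kernel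
  exact ⟨n, key ⟨n, hn⟩ hn0 hsym, eC⟩

end

end Cfsg.Agent.Lib.CS66.Cfg6
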