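import Cfsg.Agent.Lib.CS66.CaseC6f

/-! Case (C), the case where `r₁, r₂, r₃` are involutions. -/

set_option autoImplicit false
set_option maxRecDepth 100000

namespace Cfsg.Agent.Lib.CS66.Cfg6

open Cfsg.Agent.Lib.CS67.Sign Cfsg.Agent.Lib.CS67.Local Cfsg.Agent.Lib.CS66.Perm6

variable {G : Type*} [Group G] {t : G} {j : P6 →* G}

/-- A subgroup of order `32` generated by a commuting list, `X` and `r₃`: no `r₃ ψ n` is conjugate
to `t`, since the Sylow subgroup is not abelian. -/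
lemma no_conj_abelian [Finite G] (h : Cfg t j) {r1 r2 r3 : G} (R : RR t j r1 r2 r3)
    (s1 : r1 * r1 = 1) (s2 : r2 * r2 = 1) (s3 : r3 * r3 = 1)
    (L : List ℕ) (hL : CL L) (hlen : L.length = 8) (hev : ∀ n ∈ L, n &&& 1 = 0)
    (hcomm : ∀ a ∈ L, ∀ b ∈ L, mulS a b = mulS b a) (n : ℕ) (hn : n ∈ L) :
    ¬ IsConj t (r3 * psi t j n) := by
  intro hD
  have hX := R.xh h
  set X := r1 * r2 with hXdef
  have hXX : X * X = 1 := by
    rw [hXdef]
    calc r1 * r2 * (r1 * r2) = r1 * (r2 * r1) * r2 := by group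
      _ = r1 * (r1 * r2) * r2 := by rw [R.c12]
      _ = (r1 * r1) * (r2 * r2) := by group
      _ = 1 := by rw [s1, s2, one_mul]
  have hr3 := R.rh
  have hXr3 : r3 * X = X * r3 := by
    rw [hXdef]
    calc r3 * (r1 * r2) = (r3 * r1) * r2 := by group
      _ = (r1 * r3) * r2 := by rw [R.c13]
      _ = r1 * (r3 * r2) := by group
      _ = r1 * (r2 * r3) := by rw [R.c23]
      _ = r1 * r2 * r3 := by group
  let K₀ := KS h L hL
  have hK₀ab : ∀ a ∈ K₀, ∀ b ∈ K₀, a * b = b * a := by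
    rintro _ ⟨a, ha, rfl⟩ _ ⟨b, hb, rfl⟩
    rw [← psi_mul h _ _ (hL.lt a ha) (hL.lt b hb), ← psi_mul h _ _ (hL.lt b hb) (hL.lt a ha),
      hcomm a ha b hb]
  have hXK₀ : ∀ a ∈ K₀, X * a = a * X := by
    rintro _ ⟨a, ha, rfl⟩
    exact hX.comm a (hL.lt a ha) (hev a ha)
  have hr3K₀ : ∀ a ∈ K₀, r3 * a = a * r3 := by
    rintro _ ⟨a, ha, rfl⟩
    exact hr3.comm a (hL.lt a ha) (hev a ha)
  have hy1 : ∀ k ∈ K₀, X * k * X⁻¹ ∈ K₀ := by
    intro k hk
    rw [hXK₀ k hk]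
    simpa using hk
  have hy1' : X * X ∈ K₀ := by rw [hXX]; exact K₀.one_mem
  have hXnot : X ∉ K₀ := by
    rintro ⟨a, ha, e⟩
    exact XH.ne_psi h hX a (hL.lt a ha) e
  let K₁ := ext2 K₀ X hy1 hy1'
  have hK₁ab := ext2_comm K₀ X hy1 hy1' hK₀ab hXK₀
  have hr3K₁ : ∀ a ∈ K₁, r3 * a = a * r3 := by
    rintro a (ha | ha)
    · exact hr3K₀ a ha
    · have h1 := hr3K₀ _ ha
      calc r3 * a = r3 * (X * (X⁻¹ * a)) := by group
        _ = X * r3 * (X⁻¹ * a) := by rw [← mul_assoc, hXr3]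
        _ = X * (r3 * (X⁻¹ * a)) := by group
        _ = X * ((X⁻¹ * a) * r3) := by rw [h1]
        _ = a * r3 := by group
  have hy2 : ∀ k ∈ K₁, r3 * k * r3⁻¹ ∈ K₁ := by
    intro k hk
    rw [hr3K₁ k hk]
    simpa using hk
  have hy2' : r3 * r3 ∈ K₁ := by rw [s3]; exact K₁.one_mem
  have hr3not : r3 ∉ K₁ := by
    rintro (⟨a, ha, e⟩ | ⟨a, ha, e⟩)
    · exact RH.ne_psi h hr3 a (hL.lt a ha) e
    · -- `r₃ = X ψ a` moves `t` to `ψ 13`
      have e' : r3 = X * psi t j a := by rw [e]; group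
      have h1 : psi t j 3 = psi t j 13 := by
        rw [← hr3.tt, ← hX.tz, e']
        have := psi_comm_t h a (hL.lt a ha)
        calc X * psi t j a * t * (X * psi t j a)⁻¹ = X * (psi t j a * t) * (psi t j a)⁻¹ * X⁻¹ := by group
          _ = X * t * X⁻¹ := by rw [this]; group
      exact absurd (psi_inj h _ _ (by norm_num) (by norm_num) h1) (by norm_num)
  let Q := ext2 K₁ r3 hy2 hy2'
  have hQab := ext2_comm K₁ r3 hy2 hy2' hK₁ab hr3K₁
  have hQc : Nat.card Q = 2 ^ 5 := by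
    show Nat.card (ext2 K₁ r3 hy2 hy2') = _
    rw [card_ext2 _ _ _ _ hr3not]
    show 2 * Nat.card (ext2 K₀ X hy1 hy1') = _
    rw [card_ext2 _ _ _ _ hXnot]
    show 2 * (2 * Nat.card (KS h L hL)) = _
    rw [card_KS, hlen]
    norm_num
  have hdQ : r3 * psi t j n ∈ Q := by
    refine Q.mul_mem (self_mem_ext2 _ _ _ _) ?_
    exact le_ext2 _ _ _ _ (le_ext2 _ _ _ _ ⟨n, hn, rfl⟩)
  have hQd : Q ≤ Subgroup.centralizer ({r3 * psi t j n} : Set G) := by
    intro g hg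
    rw [Subgroup.mem_centralizer_singleton_iff]
    exact hQab g hg _ hdQ
  have hS := comm_of_sylow t _ hD (KS h Sl cl_S) Q (KS_S_le_t h) hQd 5 45
    (by rw [h.card]; norm_num) (by decide) (card_S h) hQc hQab
  have h4S : psi t j 4 ∈ KS h Sl cl_S := ⟨4, by decide +kernel, rfl⟩
  have h16S : psi t j 16 ∈ KS h Sl cl_S := ⟨16, by decide +kernel, rfl⟩
  have h5 := hS _ h4S _ h16S
  rw [← psi_mul h 4 16 (by norm_num) (by norm_num), ← psi_mul h 16 4 (by norm_num) (by norm_num)] at h5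
  exact absurd (psi_inj h _ _ (mulS_lt ⟨4, by norm_num⟩ ⟨16, by norm_num⟩)
    (mulS_lt ⟨16, by norm_num⟩ ⟨4, by norm_num⟩) h5) (by decide +kernel)

def J3l : List ℕ := [0, 2, 4, 6, 8, 10, 12, 14]
def V3l : List ℕ := [0, 2, 12, 14, 16, 18, 28, 30]

theorem cl_J3 : CL J3l := ⟨by decide +kernel, by decide +kernel, by decide +kernel, by decide +kernel, by decide +kernel⟩
theorem cl_V3 : CL V3l := ⟨by decide +kernel, by decide +kernel, by decide +kernel, by decide +kernel, by decide +kernel⟩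

/-- The case of involutions. -/
theorem caseC_k0 [Finite G] (h : Cfg t j) (hp : ∀ n, n < 32 → (Dc t j n ↔ FC n = true))
    {r1 r2 r3 : G} (R : RR t j r1 r2 r3)
    (s1 : r1 * r1 = 1) (s2 : r2 * r2 = 1) (s3 : r3 * r3 = 1) :
    ∃ K : Subgroup G, K.index = 2 := by
  have h8 := eight_dvd h R
  have hr3 := R.rh
  have hs3 : r3 * r3 = psi t j 0 := by rw [s3, psi_zero]
  obtain ⟨Q, -, hQc, hQn⟩ := ext_KS h Sl cl_S r3 (fun n hn =>
    ⟨thR n, by
      have : ∀ n : Fin 32, thR n.1 ∈ Sl := by decide +kernel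
      exact this ⟨n, mem_Sl.1 hn⟩, RH.conj h hr3 n (mem_Sl.1 hn)⟩) ⟨0, by decide +kernel, hs3⟩
    (fun n hn => RH.ne_psi h hr3 n (mem_Sl.1 hn))
  have h1 : cL t 1 j Sl = 12 := by
    rw [cL_congr (f := FC)]
    · decide +kernel
    · intro n hn
      rw [one_mul]
      exact hp n (mem_Sl.1 hn)
  have h2 : cL t r3 j Sl = 0 := by
    have := cL_le_length (t := t) (j := j) r3 Sl [] cl_S.nodup (by
      intro n hn hD
      exfalso
      have hnl := mem_Sl.1 hn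
      have hsq := conj_sq h _ hD
      rw [RH.sq h hr3 (by norm_num) hs3 n hnl, ← psi_zero (t := t) (j := j)] at hsq
      have hsq' := psi_inj h _ _ (mulS_lt ⟨_, mulS_lt ⟨_, thR_lt ⟨n, hnl⟩⟩ ⟨0, by norm_num⟩⟩ ⟨n, hnl⟩)
        (by norm_num) hsq
      have key : ∀ n : Fin 32, mulS (mulS (thR n.1) 0) n.1 = 0 → n.1 ∈ J3l ∨ n.1 ∈ V3l := by
        decide +kernel
      rcases key ⟨n, hnl⟩ hsq' with hm | hm
      · exact no_conj_abelian h R s1 s2 s3 J3l cl_J3 rfl (by decide +kernel) (by decide +kernel) n hm hD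
      · exact no_conj_abelian h R s1 s2 s3 V3l cl_V3 rfl (by decide +kernel) (by decide +kernel) n hm hD)
    simpa using this
  rw [h1, h2] at hQn
  have hle := cnt_le_index t Q
  rw [hQn] at hle
  obtain ⟨a, ha⟩ := h8
  refine index_two_of t h.t2 Q 45 2 ((8 * a - 12) / 4) h.card (by decide) ?_ ?_ ?_
  · rw [hQc]; rfl
  · rw [hQn, ha]; omega
  · rw [Nat.odd_iff]; omega

end Cfsg.Agent.Lib.CS66.Cfg6
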