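import Cfsg.Agent.Lib.CS66.Zz3

/-! The final assembly. -/

set_option autoImplicit false
set_option maxRecDepth 100000

namespace Cfsg.Agent.Lib.CS66.Cfg6

open Cfsg.Agent.Lib.CS67.Sign Cfsg.Agent.Lib.CS67.Local Cfsg.Agent.Lib.CS66.Perm6

variable {G : Type*} [Group G] {t : G} {j : P6 →* G}

/-- Pigeonhole used in the same-letter case. -/
lemma pigeon3 (q : Fin 32 → Prop) (A B : ℕ) (key : ∀ m : Fin 32, q m → m.1 = A ∨ m.1 = B) :
    ∀ m1 m2 m3 : Fin 32, q m1 → q m2 → q m3 → m1 ≠ m2 → m1 ≠ m3 → m2 ≠ m3 → False := by
  intro m1 m2 m3 c1 c2 c3 n12 n13 n23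
  rcases key m1 c1 with a | a <;> rcases key m2 c2 with b | b <;> rcases key m3 c3 with d | d
  all_goals
    first
    | exact n12 (Fin.ext (a.trans b.symm))
    | exact n13 (Fin.ext (a.trans d.symm))
    | exact n23 (Fin.ext (b.trans d.symm))

open Classical in
/-- The main theorem for a configuration. -/
theorem main6 [Finite G] (h : Cfg t j) : ∃ K : Subgroup G, K.index = 2 := by
  have vT : ∀ {q : Prop}, q → decide q = true := fun hq => by simpa using hq
  have vF : ∀ {q : Prop}, ¬ q → decide q = false := fun hq => by simpa using hq
  rcases step1 h with done | ⟨h13, e1, e2⟩ | ⟨h13, e1, e2⟩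
  · exact done
  · have hD13 : Dc t j 13 := by simpa using h13
    by_cases p2 : Dc t j 2 <;> by_cases p3 : Dc t j 3
    · exact (caseD h p2 p3 hD13).elim
    · -- the pattern of case (C) for the twist
      have v2 := vT p2
      have v3 := vF p3
      have v14 : decide (Dc t j 14) = true := by rw [← e1, v2]
      have v15 : decide (Dc t j 15) = false := by rw [← e2, v3]
      have hp : ∀ n, n < 32 → (Dc t j n ↔ PB true true true false false n = true) := by
        intro n hn
        have := Dc_iff_PB h n hn
        rwa [h13, v2, v14, v3, v15] at this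
      refine caseFC (twist_cfg h) (fun n hn => ?_)
      rw [Dc_twist h n hn, hp _ (twS_facts ⟨n, hn⟩).1]
      have key : ∀ n : Fin 32, PB true true true false false (twS n.1) = FC n.1 := by decide +kernel
      rw [key ⟨n, hn⟩]
    · -- the pattern of case (C)
      have v2 := vF p2
      have v3 := vT p3
      have v14 : decide (Dc t j 14) = false := by rw [← e1, v2]
      have v15 : decide (Dc t j 15) = true := by rw [← e2, v3]
      refine caseFC h (fun n hn => ?_)
      have := Dc_iff_PB h n hn
      rwa [h13, v2, v14, v3, v15] at this
    · -- case (A)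
      have v2 := vF p2
      have v3 := vF p3
      have v14 : decide (Dc t j 14) = false := by rw [← e1, v2]
      have v15 : decide (Dc t j 15) = false := by rw [← e2, v3]
      have hp : ∀ n, n < 32 → (Dc t j n ↔ FA n = true) := by
        intro n hn
        have := Dc_iff_PB h n hn
        rwa [h13, v2, v14, v3, v15] at this
      obtain ⟨x, hx, hxt⟩ := exists_nrm h 13 (by norm_num) (central_all 13 (by decide)) hD13
      rcases rank_tau h hx hxt with e | e
      · exact caseA h hp x hx hxt e
      · have hj' := twist_cfg h
        refine caseA hj' (fun n hn => ?_) x (Nrm_twist h hx) ?_ ?_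
        · rw [Dc_twist h n hn, hp _ (twS_facts ⟨n, hn⟩).1]
          have key : ∀ n : Fin 32, FA (twS n.1) = FA n.1 := by decide +kernel
          rw [key ⟨n, hn⟩]
        · rw [psi_twist h 13 (by norm_num)]
          exact hxt
        · rw [psi_twist h 2 (by norm_num)]
          have hxt' : x * psi t j 1 * x⁻¹ = psi t j 13 := by rw [psi_one]; exact hxt
          have h4 := conj_mulS h (a := 1) (b := 2) (a' := 13) (b' := 14) (by norm_num) (by norm_num)
            (by norm_num) (by norm_num) hxt' e
          have e3 : mulS 1 2 = 3 := by decide +kernel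
          have e4 : mulS 13 14 = 3 := by decide +kernel
          have e5 : twS 2 = 3 := by decide +kernel
          rw [e3, e4] at h4
          rw [e5]
          exact h4
  · exfalso
    have v14 : ∀ b : Bool, decide (Dc t j 2) = b → decide (Dc t j 14) = !b := by
      intro b hb
      revert e1
      rw [hb]
      cases decide (Dc t j 14) <;> cases b <;> simp
    have v15 : ∀ b : Bool, decide (Dc t j 3) = b → decide (Dc t j 15) = !b := by
      intro b hb
      revert e2
      rw [hb]
      cases decide (Dc t j 15) <;> cases b <;> simp
    by_cases p2 : Dc t j 2 <;> by_cases p3 : Dc t j 3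
    · -- same letter `τ`
      have hp : ∀ n, n < 32 → (Dc t j n ↔ PB false true false true false n = true) := by
        intro n hn
        have := Dc_iff_PB h n hn
        rwa [h13, vT p2, v14 _ (vT p2), vT p3, v15 _ (vT p3)] at this
      refine caseB_same h _ hp 2 4 8 5 (by decide) (by decide +kernel) (by norm_num) (by norm_num)
        (by norm_num) (by decide +kernel) (by decide +kernel) (by decide +kernel) (by decide) ?_
      exact pigeon3 _ 1 3 (by decide +kernel)
    · -- mixed
      have hp : ∀ n, n < 32 → (Dc t j n ↔ PB false true false false true n = true) := by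
        intro n hn
        have := Dc_iff_PB h n hn
        rwa [h13, vT p2, v14 _ (vT p2), vF p3, v15 _ (vF p3)] at this
      exact caseB_mixed6 h hp
    · -- mixed
      have hp : ∀ n, n < 32 → (Dc t j n ↔ PB false false true true false n = true) := by
        intro n hn
        have := Dc_iff_PB h n hn
        rwa [h13, vF p2, v14 _ (vF p2), vT p3, v15 _ (vT p3)] at this
      refine caseB_mixed6 (twist_cfg h) (fun n hn => ?_)
      rw [Dc_twist h n hn, hp _ (twS_facts ⟨n, hn⟩).1]
      have key : ∀ n : Fin 32, PB false false true true false (twS n.1) = PB false true false false true n.1 := by decide +kernel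
      rw [key ⟨n, hn⟩]
    · -- same letter `σ`
      have hp : ∀ n, n < 32 → (Dc t j n ↔ PB false false true false true n = true) := by
        intro n hn
        have := Dc_iff_PB h n hn
        rwa [h13, vF p2, v14 _ (vF p2), vF p3, v15 _ (vF p3)] at this
      refine caseB_same h _ hp 14 18 30 19 (by decide) (by decide +kernel) (by norm_num) (by norm_num)
        (by norm_num) (by decide +kernel) (by decide +kernel) (by decide +kernel) (by decide) ?_
      exact pigeon3 _ 1 15 (by decide +kernel)

end Cfsg.Agent.Lib.CS66.Cfg6
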