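import Cfsg.Agent.Lib.CS66.Nrm6

/-! First reductions: the three subgroups of index two of the Sylow subgroup `S`,
and the cases where `N(S)`-fusion gives an immediate contradiction. -/

set_option autoImplicit false
set_option maxRecDepth 100000

namespace Cfsg.Agent.Lib.CS66.Cfg6

open Cfsg.Agent.Lib.CS67.Sign Cfsg.Agent.Lib.CS67.Local Cfsg.Agent.Lib.CS66.Perm6

variable {G : Type*} [Group G] {t : G} {j : P6 →* G}

def S0l : List ℕ := [0, 2, 4, 6, 8, 10, 12, 14, 16, 18, 20, 22, 24, 26, 28, 30]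
def Hcl : List ℕ := [0, 1, 4, 5, 8, 9, 12, 13, 16, 17, 20, 21, 24, 25, 28, 29]
def Hbl : List ℕ := [0, 3, 4, 7, 8, 11, 12, 15, 16, 19, 20, 23, 24, 27, 28, 31]

theorem cl_S0 : CL S0l := ⟨by decide +kernel, by decide +kernel, by decide +kernel, by decide +kernel, by decide +kernel⟩
theorem cl_Hc : CL Hcl := ⟨by decide +kernel, by decide +kernel, by decide +kernel, by decide +kernel, by decide +kernel⟩
theorem cl_Hb : CL Hbl := ⟨by decide +kernel, by decide +kernel, by decide +kernel, by decide +kernel, by decide +kernel⟩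

open Classical in
/-- The table of conjugates for the given configuration. -/
noncomputable def PBc (t : G) (j : P6 →* G) : ℕ → Bool :=
  PB (decide (Dc t j 13)) (decide (Dc t j 2)) (decide (Dc t j 14)) (decide (Dc t j 3))
    (decide (Dc t j 15))

lemma Dc_iff_PBc (h : Cfg t j) (n : ℕ) (hn : n < 32) : Dc t j n ↔ PBc t j n = true :=
  Dc_iff_PB h n hn

lemma cL_one_eq (h : Cfg t j) (L : List ℕ) (hL : CL L) : cL t 1 j L = L.countP (PBc t j) := by
  apply cL_congr
  intro n hn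
  rw [one_mul]
  exact Dc_iff_PBc h n (hL.lt n hn)

lemma cnt_KS_PBc (h : Cfg t j) (L : List ℕ) (hL : CL L) :
    cnt t (KS h L hL) = L.countP (PBc t j) := by
  rw [cnt_KS, cL_one_eq h L hL]

/-- A parity mismatch gives the subgroup of index two. -/
lemma done_of_parity [Finite G] (h : Cfg t j) (L : List ℕ) (hL : CL L) (hlen : L.length = 16)
    (hpar : ¬ (Even (Subgroup.centralizer ({t} : Set G)).index ↔ Even (L.countP (PBc t j)))) :
    ∃ K : Subgroup G, K.index = 2 := by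
  have hle := cnt_le_index t (KS h L hL)
  rw [cnt_KS_PBc h L hL] at hle
  set N := (Subgroup.centralizer ({t} : Set G)).index with hN
  set m := L.countP (PBc t j) with hm
  refine index_two_of t h.t2 (KS h L hL) 45 0 (N - m) h.card (by decide)
    (by rw [card_KS, hlen]; norm_num) ?_ ?_
  · rw [cnt_KS_PBc h L hL, ← hm, ← hN]; omega
  · rw [Nat.odd_sub hle]
    rw [← Nat.not_even_iff_odd, ]
    tauto

theorem parity_table : ∀ p1 p2 p3 p4 p5 : Bool,
    ((S0l.countP (PB p1 p2 p3 p4 p5)) % 2 = 0 → (Hbl.countP (PB p1 p2 p3 p4 p5)) % 2 = 0 →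
      (Hcl.countP (PB p1 p2 p3 p4 p5)) % 2 = 0 → p1 = true ∧ p2 = p3 ∧ p4 = p5) ∧
    ((S0l.countP (PB p1 p2 p3 p4 p5)) % 2 = 1 → (Hbl.countP (PB p1 p2 p3 p4 p5)) % 2 = 1 →
      (Hcl.countP (PB p1 p2 p3 p4 p5)) % 2 = 1 → p1 = false ∧ p2 ≠ p3 ∧ p4 ≠ p5) := by
  intro p1 p2 p3 p4 p5
  cases p1 <;> cases p2 <;> cases p3 <;> cases p4 <;> cases p5 <;> decide +kernel

open Classical in
theorem step1 [Finite G] (h : Cfg t j) :
    (∃ K : Subgroup G, K.index = 2) ∨
    (decide (Dc t j 13) = true ∧ decide (Dc t j 2) = decide (Dc t j 14) ∧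
      decide (Dc t j 3) = decide (Dc t j 15)) ∨
    (decide (Dc t j 13) = false ∧ decide (Dc t j 2) ≠ decide (Dc t j 14) ∧
      decide (Dc t j 3) ≠ decide (Dc t j 15)) := by
  by_cases hdone : ∃ K : Subgroup G, K.index = 2
  · exact Or.inl hdone
  right
  have hpar : ∀ (L : List ℕ) (hL : CL L), L.length = 16 →
      (Even (Subgroup.centralizer ({t} : Set G)).index ↔ Even (L.countP (PBc t j))) := by
    intro L hL hlen
    by_contra hc
    exact hdone (done_of_parity h L hL hlen hc)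
  have h1 := hpar S0l cl_S0 rfl
  have h2 := hpar Hbl cl_Hb rfl
  have h3 := hpar Hcl cl_Hc rfl
  have key := parity_table (decide (Dc t j 13)) (decide (Dc t j 2)) (decide (Dc t j 14))
    (decide (Dc t j 3)) (decide (Dc t j 15))
  unfold PBc at h1 h2 h3
  rcases Nat.even_or_odd (Subgroup.centralizer ({t} : Set G)).index with hN | hN
  · left
    exact key.1 (Nat.even_iff.1 (h1.1 hN)) (Nat.even_iff.1 (h2.1 hN)) (Nat.even_iff.1 (h3.1 hN))
  · right
    have hN' : ¬ Even (Subgroup.centralizer ({t} : Set G)).index := Nat.not_even_iff_odd.2 hN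
    exact key.2 (Nat.odd_iff.1 (Nat.not_even_iff_odd.1 (fun e => hN' (h1.2 e))))
      (Nat.odd_iff.1 (Nat.not_even_iff_odd.1 (fun e => hN' (h2.2 e))))
      (Nat.odd_iff.1 (Nat.not_even_iff_odd.1 (fun e => hN' (h3.2 e))))

/-! ### Central codes -/

theorem central_all : ∀ d ∈ [0, 1, 2, 3, 12, 13, 14, 15], ∀ n : Fin 32, mulS d n.1 = mulS n.1 d := by
  decide +kernel

/-- `N(S)` preserves central codes. -/
lemma nrm_central (h : Cfg t j) {g : G} (hg : Nrm t j g) {v w : ℕ} (hv : v ∈ [0, 1, 2, 3, 12, 13, 14, 15])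
    (hw : w < 32) (e : g * psi t j v * g⁻¹ = psi t j w) : w ∈ [0, 1, 2, 3, 12, 13, 14, 15] := by
  apply central_codes ⟨w, hw⟩
  intro m
  obtain ⟨n, hn, en⟩ := hg.bwd m.1 m.2
  have en' : psi t j m.1 = g * psi t j n * g⁻¹ := by rw [← en]; group
  have hvlt : v < 32 := by
    simp only [List.mem_cons, List.not_mem_nil, or_false] at hv
    omega
  apply psi_inj h _ _ (mulS_lt ⟨w, hw⟩ m) (mulS_lt m ⟨w, hw⟩)
  rw [psi_mul h _ _ hw m.2, psi_mul h _ _ m.2 hw, en', ← e]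
  have h3 : psi t j v * psi t j n = psi t j n * psi t j v := by
    rw [← psi_mul h _ _ hvlt hn, ← psi_mul h _ _ hn hvlt, central_all v hv ⟨n, hn⟩]
  calc g * psi t j v * g⁻¹ * (g * psi t j n * g⁻¹) = g * (psi t j v * psi t j n) * g⁻¹ := by group
    _ = g * (psi t j n * psi t j v) * g⁻¹ := by rw [h3]
    _ = g * psi t j n * g⁻¹ * (g * psi t j v * g⁻¹) := by group

/-! ### All involutions conjugate: case (D) -/

theorem caseD [Finite G] (h : Cfg t j) (h2 : Dc t j 2) (h3 : Dc t j 3) (h13 : Dc t j 13) : False := by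
  obtain ⟨x, hx, hxt⟩ := exists_nrm h 13 (by norm_num) (central_all 13 (by decide)) h13
  have hmoved : x * t ≠ t * x := by
    intro e
    have h1 : psi t j 13 = psi t j 1 := by rw [psi_one, ← hxt, e]; group
    exact psi_ne h (by norm_num) (by norm_num) (by norm_num) h1
  rcases rank_tau h hx hxt with e | e
  · exact hmoved (nrm_fix h 2 (by norm_num) (central_all 2 (by decide)) h2 hx e)
  · have hxt' : x * psi t j 1 * x⁻¹ = psi t j 13 := by rw [psi_one]; exact hxt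
    have h4 := conj_mulS h (a := 1) (b := 2) (a' := 13) (b' := 14) (by norm_num) (by norm_num)
      (by norm_num) (by norm_num) hxt' e
    have e1 : mulS 1 2 = 3 := by decide +kernel
    have e2 : mulS 13 14 = 3 := by decide +kernel
    rw [e1, e2] at h4
    exact hmoved (nrm_fix h 3 (by norm_num) (central_all 3 (by decide)) h3 hx h4)

/-! ### Case (B′), same letters: a count of pairs -/

theorem caseB_same [Finite G] (h : Cfg t j) (p : ℕ → Bool) (hp : ∀ n, n < 32 → (Dc t j n ↔ p n = true))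
    (y s1 s2 s3 : ℕ) (hy : y ∈ [0, 1, 2, 3, 12, 13, 14, 15]) (hyD : p y = true)
    (hs1 : s1 < 32) (hs2 : s2 < 32) (hs3 : s3 < 32)
    (hs1D : p s1 = true ∧ p (mulS 1 s1) = true ∧ s1 ≠ 1)
    (hs2D : p s2 = true ∧ p (mulS 1 s2) = true ∧ s2 ≠ 1)
    (hs3D : p s3 = true ∧ p (mulS 1 s3) = true ∧ s3 ≠ 1)
    (hne : s1 ≠ s2 ∧ s1 ≠ s3 ∧ s2 ≠ s3)
    (hfin : ∀ m1 m2 m3 : Fin 32, (p m1.1 = true ∧ p (mulS y m1.1) = true ∧ m1.1 ≠ y) →
      (p m2.1 = true ∧ p (mulS y m2.1) = true ∧ m2.1 ≠ y) →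
      (p m3.1 = true ∧ p (mulS y m3.1) = true ∧ m3.1 ≠ y) → m1 ≠ m2 → m1 ≠ m3 → m2 ≠ m3 → False) :
    False := by
  have hylt : y < 32 := by
    simp only [List.mem_cons, List.not_mem_nil, or_false] at hy
    omega
  obtain ⟨g, hg, hgt⟩ := exists_nrm h y hylt (central_all y hy) ((hp y hylt).2 hyD)
  have hgt' : g * psi t j 1 * g⁻¹ = psi t j y := by rw [psi_one]; exact hgt
  have key : ∀ s, s < 32 → (p s = true ∧ p (mulS 1 s) = true ∧ s ≠ 1) →
      ∃ m : Fin 32, g * psi t j s * g⁻¹ = psi t j m.1 ∧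
        (p m.1 = true ∧ p (mulS y m.1) = true ∧ m.1 ≠ y) := by
    rintro s hs ⟨h1, h2, h3⟩
    obtain ⟨m, hm, e⟩ := hg.fwd s hs
    refine ⟨⟨m, hm⟩, e, ?_, ?_, ?_⟩
    · exact (hp m hm).1 ((Dc_conj e).1 ((hp s hs).2 h1))
    · have e2 := conj_mulS h (by norm_num) hs hylt hm hgt' e
      exact (hp _ (mulS_lt ⟨y, hylt⟩ ⟨m, hm⟩)).1
        ((Dc_conj e2).1 ((hp _ (mulS_lt ⟨1, by norm_num⟩ ⟨s, hs⟩)).2 h2))
    · intro e3
      simp only at e3
      subst e3
      have : psi t j s = psi t j 1 := by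
        have h4 : g * psi t j s * g⁻¹ = g * psi t j 1 * g⁻¹ := by rw [e, hgt']
        simpa using h4
      exact h3 (psi_inj h _ _ hs (by norm_num) this)
  obtain ⟨m1, e1, c1⟩ := key s1 hs1 hs1D
  obtain ⟨m2, e2, c2⟩ := key s2 hs2 hs2D
  obtain ⟨m3, e3, c3⟩ := key s3 hs3 hs3D
  have hinj : ∀ a b, a < 32 → b < 32 → a ≠ b → ∀ ma mb : Fin 32,
      g * psi t j a * g⁻¹ = psi t j ma.1 → g * psi t j b * g⁻¹ = psi t j mb.1 → ma ≠ mb := by
    intro a b ha hb hab ma mb ea eb e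
    rw [e] at ea
    have : g * psi t j a * g⁻¹ = g * psi t j b * g⁻¹ := by rw [ea, eb]
    have h5 : psi t j a = psi t j b := by simpa using this
    exact hab (psi_inj h _ _ ha hb h5)
  exact hfin m1 m2 m3 c1 c2 c3 (hinj _ _ hs1 hs2 hne.1 _ _ e1 e2) (hinj _ _ hs1 hs3 hne.2.1 _ _ e1 e3)
    (hinj _ _ hs2 hs3 hne.2.2 _ _ e2 e3)

end Cfsg.Agent.Lib.CS66.Cfg6
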