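import Cfsg.Agent.Lib.CS66.Kill6

/-! Data for the case of two twisted elements. Generated tables. -/

set_option autoImplicit false
set_option maxRecDepth 100000

namespace Cfsg.Agent.Lib.CS66.Cfg6

open Cfsg.Agent.Lib.CS66.Perm6 Cfsg.Agent.Lib.CS66.Mdl Cfsg.Agent.Lib.CS66.Eng

def TR : ℕ := 1368726171900607745523130414522507989368845666400

def Wr : ℕ → ℕ → ℕ := extW mulS (tab TR 5) 0 32

theorem TR_ok : extOK mulS 32 [1, 2, 4, 8, 16] [3, 2, 6, 10, 16] TR 5 1 = true := by decide +kernel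

def g0R : ℕ := 1

def Tg0 : ℕ := 36928528190869180882835402230766073035129633298308544727059025941401790306524289239645840871734136239973677339558208
def Jg0 : Job := ⟨extW Wr (tab Tg0 6) 0 64, 128, 7, [1, 2, 4, 8, 16, 32, 64], [(1, 1), (2, 2), (4, 4), (8, 8), (16, 16), (32, 32), (64, 64)], [16], [], List.range 128, 4⟩
theorem Jg0_chk : extOK Wr 64 [1, 2, 4, 8, 16, 32] [5, 12, 4, 6, 32, 16] Tg0 6 1 = true ∧ Jg0.ok = true ∧
    Jg0.res (Jg0.st (FCl ++ [(32, false), (64, false)])) (.mask 0) 3 16 = true := by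
  decide +kernel

def g0g0 : ℕ := 1
def Tg2 : ℕ := 33100238865872948471735258049309525057342375948707943478229727003247534729950202667596785812037451059494428650815808
def Jg2 : Job := ⟨extW Wr (tab Tg2 6) 0 64, 128, 7, [1, 2, 4, 8, 16, 32, 64], [(1, 1), (2, 2), (4, 4), (8, 8), (16, 16), (32, 32), (64, 64)], [16], [], List.range 128, 4⟩
theorem Jg2_chk : extOK Wr 64 [1, 2, 4, 8, 16, 32] [5, 12, 4, 6, 44, 18] Tg2 6 1 = true ∧ Jg2.ok = true ∧
    Jg2.res (Jg2.st (FCl ++ [(32, false), (64, false)])) (.mask 0) 3 16 = true := by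
  decide +kernel

def g0g2 : ℕ := 1
def Tg12 : ℕ := 33100238865872948471735258049292781331326752973530550156196558809736139378051987491375295961555274541480352460095808
def Jg12 : Job := ⟨extW Wr (tab Tg12 6) 0 64, 128, 7, [1, 2, 4, 8, 16, 32, 64], [(1, 1), (2, 2), (4, 4), (8, 8), (16, 16), (32, 32), (64, 64)], [16], [], List.range 128, 4⟩
theorem Jg12_chk : extOK Wr 64 [1, 2, 4, 8, 16, 32] [5, 12, 4, 6, 34, 28] Tg12 6 1 = true ∧ Jg12.ok = true ∧
    Jg12.res (Jg12.st (FCl ++ [(32, false), (64, false)])) (.mask 0) 3 16 = true := by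
  decide +kernel

def g0g12 : ℕ := 1
def Tg14 : ℕ := 36928528190869180882835402230717753230611801871800278218270468989395766238283538070158963087817044589079667191103808
def Jg14 : Job := ⟨extW Wr (tab Tg14 6) 0 64, 128, 7, [1, 2, 4, 8, 16, 32, 64], [(1, 1), (2, 2), (4, 4), (8, 8), (16, 16), (32, 32), (64, 64)], [16], [], List.range 128, 4⟩
theorem Jg14_chk : extOK Wr 64 [1, 2, 4, 8, 16, 32] [5, 12, 4, 6, 46, 30] Tg14 6 1 = true ∧ Jg14.ok = true ∧
    Jg14.res (Jg14.st (FCl ++ [(32, false), (64, false)])) (.mask 0) 3 16 = true := by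
  decide +kernel

def g0g14 : ℕ := 1
def Tw0_0 : ℕ := 31983164202944897106020453987817619741232041232609397936896115169227562605508777024341451335392092236257612830876608
def Jw0_0 : Job := ⟨extW Wr (tab Tw0_0 6) 0 64, 128, 7, [1, 2, 4, 8, 16, 32, 64], [(1, 1), (2, 2), (4, 4), (8, 8), (16, 16), (32, 32), (64, 64)], [5, 16, 4, 17, 2, 32], [], List.range 128, 1⟩
theorem Jw0_0_chk : extOK Wr 64 [1, 2, 4, 8, 16, 32] [15, 2, 4, 8, 18, 32] Tw0_0 6 1 = true ∧ Jw0_0.ok = true ∧ Jw0_0.tOK [((.mask 0), 3), ((.mask 32), 2), ((.chr 96), 2)] = true ∧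
    Jw0_0.dead [((.mask 0), 3), ((.mask 32), 2), ((.chr 96), 2)] [(16, 3)] [64] (FCl ++ [(32, false)]) = true := by
  decide +kernel

def Tw0_2 : ℕ := 31983164202944897106020453987817619741232041232609397936896115169227562605508777024341451335392092236257612830876608
def Jw0_2 : Job := ⟨extW Wr (tab Tw0_2 6) 2 64, 128, 7, [1, 2, 4, 8, 16, 32, 64], [(1, 1), (2, 2), (4, 4), (8, 8), (16, 16), (32, 32), (64, 66)], [5, 16, 32], [], List.range 128, 1⟩
theorem Jw0_2_chk : extOK Wr 64 [1, 2, 4, 8, 16, 32] [15, 2, 4, 8, 18, 32] Tw0_2 6 1 = true ∧ Jw0_2.ok = true ∧ Jw0_2.tOK [((.mask 0), 3), ((.mask 32), 2), ((.chr 96), 2)] = true ∧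
    Jw0_2.dead [((.mask 0), 3), ((.mask 32), 2), ((.chr 96), 2)] [(16, 3)] [80, 100] (FCl ++ [(32, false)]) = true := by
  decide +kernel

def Tw0_12 : ℕ := 31983164202944897106020453987817619741232041232609397936896115169227562605508777024341451335392092236257612830876608
def Jw0_12 : Job := ⟨extW Wr (tab Tw0_12 6) 12 64, 128, 7, [1, 2, 4, 8, 16, 32, 64], [(1, 1), (2, 2), (4, 4), (8, 8), (16, 16), (32, 32), (64, 76)], [5, 16, 48, 37], [], List.range 128, 1⟩
theorem Jw0_12_chk : extOK Wr 64 [1, 2, 4, 8, 16, 32] [15, 2, 4, 8, 18, 32] Tw0_12 6 1 = true ∧ Jw0_12.ok = true ∧ Jw0_12.tOK [((.mask 0), 3), ((.mask 32), 2), ((.chr 96), 2)] = true ∧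
    Jw0_12.dead [((.mask 0), 3), ((.mask 32), 2), ((.chr 96), 2)] [(16, 3)] [81] (FCl ++ [(32, false)]) = true := by
  decide +kernel

def Tw0_14 : ℕ := 31983164202944897106020453987817619741232041232609397936896115169227562605508777024341451335392092236257612830876608
def Jw0_14 : Job := ⟨extW Wr (tab Tw0_14 6) 14 64, 128, 7, [1, 2, 4, 8, 16, 32, 64], [(1, 1), (2, 2), (4, 4), (8, 8), (16, 16), (32, 32), (64, 78)], [5, 16, 2, 4, 17, 32, 37], [69], List.range 128, 1⟩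
theorem Jw0_14_chk : extOK Wr 64 [1, 2, 4, 8, 16, 32] [15, 2, 4, 8, 18, 32] Tw0_14 6 1 = true ∧ Jw0_14.ok = true ∧ Jw0_14.tOK [((.mask 0), 3), ((.mask 32), 2), ((.chr 96), 2)] = true ∧
    Jw0_14.dead [((.mask 0), 3), ((.mask 32), 2), ((.chr 96), 2)] [(16, 3)] [] (FCl ++ [(32, false)]) = true := by
  decide +kernel

def Tw2_0 : ℕ := 30771386614283509656484901375542108419810322678971250523269247453326096968461190931661313480398962611097622793167808
def Jw2_0 : Job := ⟨extW Wr (tab Tw2_0 6) 0 64, 128, 7, [1, 2, 4, 8, 16, 32, 64], [(1, 1), (2, 2), (4, 4), (8, 8), (16, 16), (32, 32), (64, 64)], [5, 16, 2, 4, 17, 32, 37], [68], List.range 128, 1⟩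
theorem Jw2_0_chk : extOK Wr 64 [1, 2, 4, 8, 16, 32] [15, 2, 4, 8, 18, 34] Tw2_0 6 1 = true ∧ Jw2_0.ok = true ∧ Jw2_0.tOK [((.mask 0), 3), ((.mask 32), 2), ((.chr 96), 2)] = true ∧
    Jw2_0.dead [((.mask 0), 3), ((.mask 32), 2), ((.chr 96), 2)] [(16, 3)] [] (FCl ++ [(32, false)]) = true := by
  decide +kernel

def Tw2_2 : ℕ := 30771386614283509656484901375542108419810322678971250523269247453326096968461190931661313480398962611097622793167808
def Jw2_2 : Job := ⟨extW Wr (tab Tw2_2 6) 2 64, 128, 7, [1, 2, 4, 8, 16, 32, 64], [(1, 1), (2, 2), (4, 4), (8, 8), (16, 16), (32, 32), (64, 66)], [5, 16, 48, 37], [], List.range 128, 1⟩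
theorem Jw2_2_chk : extOK Wr 64 [1, 2, 4, 8, 16, 32] [15, 2, 4, 8, 18, 34] Tw2_2 6 1 = true ∧ Jw2_2.ok = true ∧ Jw2_2.tOK [((.mask 0), 3), ((.mask 32), 2), ((.chr 96), 2)] = true ∧
    Jw2_2.dead [((.mask 0), 3), ((.mask 32), 2), ((.chr 96), 2)] [(16, 3)] [80] (FCl ++ [(32, false)]) = true := by
  decide +kernel

def Tw2_12 : ℕ := 30771386614283509656484901375542108419810322678971250523269247453326096968461190931661313480398962611097622793167808
def Jw2_12 : Job := ⟨extW Wr (tab Tw2_12 6) 12 64, 128, 7, [1, 2, 4, 8, 16, 32, 64], [(1, 1), (2, 2), (4, 4), (8, 8), (16, 16), (32, 32), (64, 76)], [5, 16, 32], [], List.range 128, 1⟩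
theorem Jw2_12_chk : extOK Wr 64 [1, 2, 4, 8, 16, 32] [15, 2, 4, 8, 18, 34] Tw2_12 6 1 = true ∧ Jw2_12.ok = true ∧ Jw2_12.tOK [((.mask 0), 3), ((.mask 32), 2), ((.chr 96), 2)] = true ∧
    Jw2_12.dead [((.mask 0), 3), ((.mask 32), 2), ((.chr 96), 2)] [(16, 3)] [81, 101] (FCl ++ [(32, false)]) = true := by
  decide +kernel

def Tw2_14 : ℕ := 30771386614283509656484901375542108419810322678971250523269247453326096968461190931661313480398962611097622793167808
def Jw2_14 : Job := ⟨extW Wr (tab Tw2_14 6) 14 64, 128, 7, [1, 2, 4, 8, 16, 32, 64], [(1, 1), (2, 2), (4, 4), (8, 8), (16, 16), (32, 32), (64, 78)], [5, 16, 4, 17, 32, 2], [], List.range 128, 1⟩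
theorem Jw2_14_chk : extOK Wr 64 [1, 2, 4, 8, 16, 32] [15, 2, 4, 8, 18, 34] Tw2_14 6 1 = true ∧ Jw2_14.ok = true ∧ Jw2_14.tOK [((.mask 0), 3), ((.mask 32), 2), ((.chr 96), 2)] = true ∧
    Jw2_14.dead [((.mask 0), 3), ((.mask 32), 2), ((.chr 96), 2)] [(16, 3)] [65] (FCl ++ [(32, false)]) = true := by
  decide +kernel

def Tw12_0 : ℕ := 39257380442458619698085758904753566535412628772741649543437780804813700402799836248757015012715611004492746574799808
def Jw12_0 : Job := ⟨extW Wr (tab Tw12_0 6) 0 64, 128, 7, [1, 2, 4, 8, 16, 32, 64], [(1, 1), (2, 2), (4, 4), (8, 8), (16, 16), (32, 32), (64, 64)], [5, 16, 2, 4, 17, 37, 48], [68], List.range 128, 2⟩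
theorem Jw12_0_chk : extOK Wr 64 [1, 2, 4, 8, 16, 32] [15, 2, 4, 8, 18, 44] Tw12_0 6 1 = true ∧ Jw12_0.ok = true ∧ Jw12_0.tOK [((.mask 0), 3), ((.mask 32), 2), ((.chr 96), 2)] = true ∧
    Jw12_0.dead [((.mask 0), 3), ((.mask 32), 2), ((.chr 96), 2)] [(16, 3)] [] (FCl ++ [(32, false)]) = true := by
  decide +kernel

def Tw12_2 : ℕ := 39257380442458619698085758904753566535412628772741649543437780804813700402799836248757015012715611004492746574799808
def Jw12_2 : Job := ⟨extW Wr (tab Tw12_2 6) 2 64, 128, 7, [1, 2, 4, 8, 16, 32, 64], [(1, 1), (2, 2), (4, 4), (8, 8), (16, 16), (32, 32), (64, 66)], [5, 16], [], List.range 128, 1⟩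
theorem Jw12_2_chk : extOK Wr 64 [1, 2, 4, 8, 16, 32] [15, 2, 4, 8, 18, 44] Tw12_2 6 1 = true ∧ Jw12_2.ok = true ∧ Jw12_2.tOK [((.mask 0), 3), ((.mask 32), 2), ((.chr 96), 2)] = true ∧
    Jw12_2.dead [((.mask 0), 3), ((.mask 32), 2), ((.chr 96), 2)] [(16, 3)] [80, 101, 113] (FCl ++ [(32, false)]) = true := by
  decide +kernel

def Tw12_12 : ℕ := 39257380442458619698085758904753566535412628772741649543437780804813700402799836248757015012715611004492746574799808
def Jw12_12 : Job := ⟨extW Wr (tab Tw12_12 6) 12 64, 128, 7, [1, 2, 4, 8, 16, 32, 64], [(1, 1), (2, 2), (4, 4), (8, 8), (16, 16), (32, 32), (64, 76)], [5, 16, 2], [], List.range 128, 1⟩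
theorem Jw12_12_chk : extOK Wr 64 [1, 2, 4, 8, 16, 32] [15, 2, 4, 8, 18, 44] Tw12_12 6 1 = true ∧ Jw12_12.ok = true ∧ Jw12_12.tOK [((.mask 0), 3), ((.mask 32), 2), ((.chr 96), 2)] = true ∧
    Jw12_12.dead [((.mask 0), 3), ((.mask 32), 2), ((.chr 96), 2)] [(16, 3)] [81, 96, 117] (FCl ++ [(32, false)]) = true := by
  decide +kernel

def Tw12_14 : ℕ := 39257380442458619698085758904753566535412628772741649543437780804813700402799836248757015012715611004492746574799808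
def Jw12_14 : Job := ⟨extW Wr (tab Tw12_14 6) 14 64, 128, 7, [1, 2, 4, 8, 16, 32, 64], [(1, 1), (2, 2), (4, 4), (8, 8), (16, 16), (32, 32), (64, 78)], [5, 16, 4, 2, 17, 37], [], List.range 128, 1⟩
theorem Jw12_14_chk : extOK Wr 64 [1, 2, 4, 8, 16, 32] [15, 2, 4, 8, 18, 44] Tw12_14 6 1 = true ∧ Jw12_14.ok = true ∧ Jw12_14.tOK [((.mask 0), 3), ((.mask 32), 2), ((.chr 96), 2)] = true ∧
    Jw12_14.dead [((.mask 0), 3), ((.mask 32), 2), ((.chr 96), 2)] [(16, 3)] [65, 112] (FCl ++ [(32, false)]) = true := by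
  decide +kernel

def Tw14_0 : ℕ := 38045602853797232248550206292478055213990910219103502129810913088912234765752250156076877157722481379332756537091008
def Jw14_0 : Job := ⟨extW Wr (tab Tw14_0 6) 0 64, 128, 7, [1, 2, 4, 8, 16, 32, 64], [(1, 1), (2, 2), (4, 4), (8, 8), (16, 16), (32, 32), (64, 64)], [5, 16, 4, 2, 17, 37], [], List.range 128, 1⟩
theorem Jw14_0_chk : extOK Wr 64 [1, 2, 4, 8, 16, 32] [15, 2, 4, 8, 18, 46] Tw14_0 6 1 = true ∧ Jw14_0.ok = true ∧ Jw14_0.tOK [((.mask 0), 3), ((.mask 32), 2), ((.chr 96), 2)] = true ∧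
    Jw14_0.dead [((.mask 0), 3), ((.mask 32), 2), ((.chr 96), 2)] [(16, 3)] [64, 113] (FCl ++ [(32, false)]) = true := by
  decide +kernel

def Tw14_2 : ℕ := 38045602853797232248550206292478055213990910219103502129810913088912234765752250156076877157722481379332756537091008
def Jw14_2 : Job := ⟨extW Wr (tab Tw14_2 6) 2 64, 128, 7, [1, 2, 4, 8, 16, 32, 64], [(1, 1), (2, 2), (4, 4), (8, 8), (16, 16), (32, 32), (64, 66)], [5, 16, 2], [], List.range 128, 1⟩
theorem Jw14_2_chk : extOK Wr 64 [1, 2, 4, 8, 16, 32] [15, 2, 4, 8, 18, 46] Tw14_2 6 1 = true ∧ Jw14_2.ok = true ∧ Jw14_2.tOK [((.mask 0), 3), ((.mask 32), 2), ((.chr 96), 2)] = true ∧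
    Jw14_2.dead [((.mask 0), 3), ((.mask 32), 2), ((.chr 96), 2)] [(16, 3)] [80, 97, 116] (FCl ++ [(32, false)]) = true := by
  decide +kernel

def Tw14_12 : ℕ := 38045602853797232248550206292478055213990910219103502129810913088912234765752250156076877157722481379332756537091008
def Jw14_12 : Job := ⟨extW Wr (tab Tw14_12 6) 12 64, 128, 7, [1, 2, 4, 8, 16, 32, 64], [(1, 1), (2, 2), (4, 4), (8, 8), (16, 16), (32, 32), (64, 76)], [5, 16], [], List.range 128, 1⟩
theorem Jw14_12_chk : extOK Wr 64 [1, 2, 4, 8, 16, 32] [15, 2, 4, 8, 18, 46] Tw14_12 6 1 = true ∧ Jw14_12.ok = true ∧ Jw14_12.tOK [((.mask 0), 3), ((.mask 32), 2), ((.chr 96), 2)] = true ∧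
    Jw14_12.dead [((.mask 0), 3), ((.mask 32), 2), ((.chr 96), 2)] [(16, 3)] [81, 100, 112] (FCl ++ [(32, false)]) = true := by
  decide +kernel

def Tw14_14 : ℕ := 38045602853797232248550206292478055213990910219103502129810913088912234765752250156076877157722481379332756537091008
def Jw14_14 : Job := ⟨extW Wr (tab Tw14_14 6) 14 64, 128, 7, [1, 2, 4, 8, 16, 32, 64], [(1, 1), (2, 2), (4, 4), (8, 8), (16, 16), (32, 32), (64, 78)], [5, 16, 2, 4, 17, 37, 48], [69], List.range 128, 2⟩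
theorem Jw14_14_chk : extOK Wr 64 [1, 2, 4, 8, 16, 32] [15, 2, 4, 8, 18, 46] Tw14_14 6 1 = true ∧ Jw14_14.ok = true ∧ Jw14_14.tOK [((.mask 0), 3), ((.mask 32), 2), ((.chr 96), 2)] = true ∧
    Jw14_14.dead [((.mask 0), 3), ((.mask 32), 2), ((.chr 96), 2)] [(16, 3)] [] (FCl ++ [(32, false)]) = true := by
  decide +kernel

end Cfsg.Agent.Lib.CS66.Cfg6
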